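import Groth.Prelude.Def_Biext
import Mathlib.CategoryTheory.Sites.Sheaf
import Mathlib.Algebra.Group.Subgroup.Basic

/-!
Descent of a "splitting over multiplication by `(n, m)`" to a splitting, for locally divisible sheaves.
-/

universe u

open CategoryTheory Opposite

namespace Groth.Agent.BiextDiv

variable {C : Type (u + 1)} [Category.{u} C] {J : GrothendieckTopology C}

/-- Every section is locally an `n`-fold. -/
def LocDiv (P : Sheaf J AddCommGrpCat.{u + 1}) (n : ℤ) : Prop :=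
  ∀ (T : C) (p : P.obj.obj (op T)), ∃ R ∈ J T,
    ∀ ⦃T' : C⦄ (f : T' ⟶ T), R f → ∃ a : P.obj.obj (op T'), n • a = P.obj.map f.op p

theorem res_res (P : Sheaf J AddCommGrpCat.{u + 1}) {T T' T'' : C} (f : T' ⟶ T) (g : T'' ⟶ T')
    (v : P.obj.obj (op T)) : P.obj.map g.op (P.obj.map f.op v) = P.obj.map (g ≫ f).op v := by
  rw [op_comp, P.obj.map_comp, ConcreteCategory.comp_apply]

variable {P Q G : Sheaf J AddCommGrpCat.{u + 1}} (B : Biext J P Q G)

theorem res_res_E {T T' T'' : C} (f : T' ⟶ T) (g : T'' ⟶ T') (v : B.E.obj.obj (op T)) :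
    B.E.obj.map g.op (B.E.obj.map f.op v) = B.E.obj.map (g ≫ f).op v := by
  rw [op_comp, B.E.obj.map_comp, ConcreteCategory.comp_apply]

theorem isSheaf_E : Presieve.IsSheaf J B.E.obj :=
  (isSheaf_iff_isSheaf_of_type _ _).1 B.E.2

theorem ext_E {T : C} {R : Sieve T} (hR : R ∈ J T) {v w : B.E.obj.obj (op T)}
    (h : ∀ ⦃T' : C⦄ (k : T' ⟶ T), R k → B.E.obj.map k.op v = B.E.obj.map k.op w) : v = w :=
  (isSheaf_E B R hR).isSeparatedFor.ext fun _ k hk => h k hk

theorem ext_sec (P : Sheaf J AddCommGrpCat.{u + 1}) {T : C} {R : Sieve T} (hR : R ∈ J T) {v w : P.obj.obj (op T)}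
    (h : ∀ ⦃T' : C⦄ (k : T' ⟶ T), R k → P.obj.map k.op v = P.obj.map k.op w) : v = w :=
  ((isSheaf_iff_isSheaf_of_type _ _).1 ((sheafCompose J (forget AddCommGrpCat.{u + 1})).obj P).2 R
    hR).isSeparatedFor.ext fun _ k hk => h k hk

theorem add₁_congr {T : C} {x x' z z' : B.E.obj.obj (op T)} (hx : x = x') (hz : z = z')
    (h : B.πQ T x = B.πQ T z) : B.add₁ T x z h = B.add₁ T x' z' (hx ▸ hz ▸ h) := by
  subst hx; subst hz; rfl

theorem add₂_congr {T : C} {x x' z z' : B.E.obj.obj (op T)} (hx : x = x') (hz : z = z')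
    (h : B.πP T x = B.πP T z) : B.add₂ T x z h = B.add₂ T x' z' (hx ▸ hz ▸ h) := by
  subst hx; subst hz; rfl

theorem act_cancel {T : C} {g g' : G.obj.obj (op T)} {x : B.E.obj.obj (op T)}
    (h : B.act T g x = B.act T g' x) : g = g' :=
  (B.existsUnique_act T x (B.act T g' x) (B.πP_act T g' x).symm (B.πQ_act T g' x).symm).unique h rfl

theorem act_add₁ {T : C} (g g' : G.obj.obj (op T)) (x z : B.E.obj.obj (op T)) (h : B.πQ T x = B.πQ T z) :
    B.add₁ T (B.act T g x) (B.act T g' z) (by rw [B.πQ_act, B.πQ_act, h]) = B.act T (g + g') (B.add₁ T x z h) := by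
  have h' : B.πQ T x = B.πQ T (B.act T g' z) := by rw [B.πQ_act, h]
  rw [B.add₁_act T g x _ h', B.add₁_comm T x _ h', B.add₁_act T g' z x h.symm, B.add₁_comm T z x h.symm,
    B.add_act]

theorem act_add₂ {T : C} (g g' : G.obj.obj (op T)) (x z : B.E.obj.obj (op T)) (h : B.πP T x = B.πP T z) :
    B.add₂ T (B.act T g x) (B.act T g' z) (by rw [B.πP_act, B.πP_act, h]) = B.act T (g + g') (B.add₂ T x z h) := by
  have h' : B.πP T x = B.πP T (B.act T g' z) := by rw [B.πP_act, h]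
  rw [B.add₂_act T g x _ h', B.add₂_comm T x _ h', B.add₂_act T g' z x h.symm, B.add₂_comm T z x h.symm,
    B.add_act]

variable (n m : ℤ)

/-- A family of sections of `B` above `(n p, m q)`, natural and biadditive. -/
structure Over2 where
  F : ∀ T : C, P.obj.obj (op T) → Q.obj.obj (op T) → B.E.obj.obj (op T)
  πP_F : ∀ T p q, B.πP T (F T p q) = n • p
  πQ_F : ∀ T p q, B.πQ T (F T p q) = m • q
  F_map : ∀ {T T' : C} (f : T' ⟶ T) p q,
    B.E.obj.map f.op (F T p q) = F T' (P.obj.map f.op p) (Q.obj.map f.op q)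
  F_add₁ : ∀ T p p' q, F T (p + p') q = B.add₁ T (F T p q) (F T p' q) ((πQ_F T p q).trans (πQ_F T p' q).symm)
  F_add₂ : ∀ T p q q', F T p (q + q') = B.add₂ T (F T p q) (F T p q') ((πP_F T p q).trans (πP_F T p q').symm)

variable {B n m} (D : Over2 B n m)

/-- The kernel of multiplication by `n` on sections. -/
def ker (P : Sheaf J AddCommGrpCat.{u + 1}) (n : ℤ) (T : C) : AddSubgroup (P.obj.obj (op T)) :=
  (zsmulAddGroupHom n : P.obj.obj (op T) →+ P.obj.obj (op T)).ker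

theorem mem_ker {T : C} {p : P.obj.obj (op T)} : p ∈ ker P n T ↔ n • p = 0 := by
  simp [ker, AddMonoidHom.mem_ker]

theorem exists_β₁ (T : C) (k : ker P n T) (q : Q.obj.obj (op T)) :
    ∃! g : G.obj.obj (op T), B.act T g (D.F T 0 q) = D.F T k q :=
  B.existsUnique_act T _ _ (by rw [D.πP_F, D.πP_F, zsmul_zero, mem_ker.1 k.2]) (by rw [D.πQ_F, D.πQ_F])

noncomputable def β₁ (T : C) (k : ker P n T) (q : Q.obj.obj (op T)) : G.obj.obj (op T) :=
  (exists_β₁ D T k q).exists.choose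

theorem β₁_spec (T : C) (k : ker P n T) (q : Q.obj.obj (op T)) :
    B.act T (β₁ D T k q) (D.F T 0 q) = D.F T k q :=
  (exists_β₁ D T k q).exists.choose_spec

theorem β₁_add_left (T : C) (k k' : ker P n T) (q : Q.obj.obj (op T)) :
    β₁ D T (k + k') q = β₁ D T k q + β₁ D T k' q := by
  refine (exists_β₁ D T (k + k') q).unique (β₁_spec D T _ q) ?_
  rw [AddSubgroup.coe_add, D.F_add₁, add₁_congr B (β₁_spec D T k q).symm (β₁_spec D T k' q).symm,
    act_add₁ B _ _ _ _ rfl, ← D.F_add₁, add_zero]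

theorem β₁_add_right (T : C) (k : ker P n T) (q q' : Q.obj.obj (op T)) :
    β₁ D T k (q + q') = β₁ D T k q + β₁ D T k q' := by
  refine (exists_β₁ D T k (q + q')).unique (β₁_spec D T k _) ?_
  rw [D.F_add₂ T k q q', add₂_congr B (β₁_spec D T k q).symm (β₁_spec D T k q').symm,
    act_add₂ B _ _ _ _ (by rw [D.πP_F, D.πP_F]), ← D.F_add₂]

theorem β₁_zsmul (T : C) (k : ker P n T) (q : Q.obj.obj (op T)) : β₁ D T k (n • q) = 0 := by
  have h1 := map_zsmul (AddMonoidHom.mk' (fun q => β₁ D T k q) (β₁_add_right D T k)) n q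
  have h2 := map_zsmul (AddMonoidHom.mk' (fun k => β₁ D T k q) (fun k k' => β₁_add_left D T k k' q)) n k
  have h3 : n • k = 0 := Subtype.ext (by rw [AddSubgroup.coe_zsmul, AddSubgroup.coe_zero]; exact mem_ker.1 k.2)
  simp only [AddMonoidHom.mk'_apply] at h1 h2
  rw [h1, ← h2, h3]
  exact map_zero (AddMonoidHom.mk' (fun k => β₁ D T k q) (fun k k' => β₁_add_left D T k k' q))

theorem F_ker₁ (hQ : LocDiv Q n) (T : C) (k : P.obj.obj (op T)) (hk : n • k = 0) (q : Q.obj.obj (op T)) :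
    D.F T k q = D.F T 0 q := by
  obtain ⟨R, hR, h⟩ := hQ T q
  refine ext_E B hR fun T' f hf => ?_
  obtain ⟨a, ha⟩ := h f hf
  have hk' : P.obj.map f.op k ∈ ker P n T' := mem_ker.2 (by rw [← map_zsmul, hk, map_zero])
  rw [D.F_map, D.F_map, map_zero, ← ha, ← β₁_spec D T' ⟨_, hk'⟩ (n • a), β₁_zsmul, B.zero_act]

theorem indep₁ (hQ : LocDiv Q n) (T : C) (p p' : P.obj.obj (op T)) (h : n • p = n • p') (q : Q.obj.obj (op T)) :
    D.F T p q = D.F T p' q := by
  have hk : n • (p - p') = 0 := by rw [zsmul_sub, h, sub_self]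
  calc D.F T p q = D.F T (p' + (p - p')) q := by rw [add_sub_cancel]
    _ = D.F T (p' + 0) q := by
      rw [D.F_add₁, D.F_add₁]; exact add₁_congr B rfl (F_ker₁ D hQ T _ hk q) _
    _ = D.F T p' q := by rw [add_zero]

theorem exists_β₂ (T : C) (l : ker Q m T) (p : P.obj.obj (op T)) :
    ∃! g : G.obj.obj (op T), B.act T g (D.F T p 0) = D.F T p l :=
  B.existsUnique_act T _ _ (by rw [D.πP_F, D.πP_F]) (by rw [D.πQ_F, D.πQ_F, zsmul_zero, mem_ker.1 l.2])

noncomputable def β₂ (T : C) (l : ker Q m T) (p : P.obj.obj (op T)) : G.obj.obj (op T) :=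
  (exists_β₂ D T l p).exists.choose

theorem β₂_spec (T : C) (l : ker Q m T) (p : P.obj.obj (op T)) :
    B.act T (β₂ D T l p) (D.F T p 0) = D.F T p l :=
  (exists_β₂ D T l p).exists.choose_spec

theorem β₂_add_left (T : C) (l l' : ker Q m T) (p : P.obj.obj (op T)) :
    β₂ D T (l + l') p = β₂ D T l p + β₂ D T l' p := by
  refine (exists_β₂ D T (l + l') p).unique (β₂_spec D T _ p) ?_
  rw [AddSubgroup.coe_add, D.F_add₂, add₂_congr B (β₂_spec D T l p).symm (β₂_spec D T l' p).symm,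
    act_add₂ B _ _ _ _ rfl, ← D.F_add₂, add_zero]

theorem β₂_add_right (T : C) (l : ker Q m T) (p p' : P.obj.obj (op T)) :
    β₂ D T l (p + p') = β₂ D T l p + β₂ D T l p' := by
  refine (exists_β₂ D T l (p + p')).unique (β₂_spec D T l _) ?_
  rw [D.F_add₁ T p p' l, add₁_congr B (β₂_spec D T l p).symm (β₂_spec D T l p').symm,
    act_add₁ B _ _ _ _ (by rw [D.πQ_F, D.πQ_F]), ← D.F_add₁]

theorem β₂_zsmul (T : C) (l : ker Q m T) (p : P.obj.obj (op T)) : β₂ D T l (m • p) = 0 := by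
  have h1 := map_zsmul (AddMonoidHom.mk' (fun p => β₂ D T l p) (β₂_add_right D T l)) m p
  have h2 := map_zsmul (AddMonoidHom.mk' (fun l => β₂ D T l p) (fun l l' => β₂_add_left D T l l' p)) m l
  have h3 : m • l = 0 := Subtype.ext (by rw [AddSubgroup.coe_zsmul, AddSubgroup.coe_zero]; exact mem_ker.1 l.2)
  simp only [AddMonoidHom.mk'_apply] at h1 h2
  rw [h1, ← h2, h3]
  exact map_zero (AddMonoidHom.mk' (fun l => β₂ D T l p) (fun l l' => β₂_add_left D T l l' p))

theorem F_ker₂ (hP : LocDiv P m) (T : C) (l : Q.obj.obj (op T)) (hl : m • l = 0) (p : P.obj.obj (op T)) :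
    D.F T p l = D.F T p 0 := by
  obtain ⟨R, hR, h⟩ := hP T p
  refine ext_E B hR fun T' f hf => ?_
  obtain ⟨a, ha⟩ := h f hf
  have hl' : Q.obj.map f.op l ∈ ker Q m T' := mem_ker.2 (by rw [← map_zsmul, hl, map_zero])
  rw [D.F_map, D.F_map, map_zero, ← ha, ← β₂_spec D T' ⟨_, hl'⟩ (m • a), β₂_zsmul, B.zero_act]

theorem indep₂ (hP : LocDiv P m) (T : C) (q q' : Q.obj.obj (op T)) (h : m • q = m • q') (p : P.obj.obj (op T)) :
    D.F T p q = D.F T p q' := by
  have hl : m • (q - q') = 0 := by rw [zsmul_sub, h, sub_self]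
  calc D.F T p q = D.F T p (q' + (q - q')) := by rw [add_sub_cancel]
    _ = D.F T p (q' + 0) := by
      rw [D.F_add₂, D.F_add₂]; exact add₂_congr B rfl (F_ker₂ D hP T _ hl p) _
    _ = D.F T p q' := by rw [add_zero]

/-- `e` is the value at `(p, q)` of the descended splitting. -/
def Rel (T : C) (p : P.obj.obj (op T)) (q : Q.obj.obj (op T)) (e : B.E.obj.obj (op T)) : Prop :=
  ∀ ⦃T' : C⦄ (f : T' ⟶ T) (a : P.obj.obj (op T')) (b : Q.obj.obj (op T')), n • a = P.obj.map f.op p →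
    m • b = Q.obj.map f.op q → B.E.obj.map f.op e = D.F T' a b

variable (hPn : LocDiv P n) (hPm : LocDiv P m) (hQn : LocDiv Q n) (hQm : LocDiv Q m)

include hPn hPm hQn hQm in
theorem exists_rel (T : C) (p : P.obj.obj (op T)) (q : Q.obj.obj (op T)) : ∃ e, Rel D T p q e := by
  obtain ⟨R, hR, hp⟩ := hPn T p
  obtain ⟨R', hR', hq⟩ := hQm T q
  choose a ha using hp
  choose b hb using hq
  let fam : Presieve.FamilyOfElements B.E.obj (R ⊓ R').arrows :=
    fun T' f hf => D.F T' (a f hf.1) (b f hf.2)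
  have key : ∀ (T' : C) (a₁ a₂ : P.obj.obj (op T')) (b₁ b₂ : Q.obj.obj (op T')), n • a₁ = n • a₂ →
      m • b₁ = m • b₂ → D.F T' a₁ b₁ = D.F T' a₂ b₂ := fun T' a₁ a₂ b₁ b₂ h h' =>
    (indep₁ D hQn T' a₁ a₂ h b₁).trans (indep₂ D hPm T' b₁ b₂ h' a₂)
  have hc : fam.Compatible := by
    intro T₁ T₂ Z g₁ g₂ f₁ f₂ hf₁ hf₂ e
    show B.E.obj.map g₁.op (D.F T₁ _ _) = B.E.obj.map g₂.op (D.F T₂ _ _)
    rw [D.F_map, D.F_map]
    apply key
    · rw [← map_zsmul, ← map_zsmul, ha, ha, res_res, res_res, e]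
    · rw [← map_zsmul, ← map_zsmul, hb, hb, res_res, res_res, e]
  obtain ⟨e, he, -⟩ := isSheaf_E B (R ⊓ R') (J.intersection_covering hR hR') fam hc
  refine ⟨e, fun T' f x y hx hy => ext_E B (J.pullback_stable f (J.intersection_covering hR hR')) fun T'' g hg => ?_⟩
  rw [res_res_E, D.F_map]
  refine (he (g ≫ f) hg).trans (key _ _ _ _ _ ?_ ?_)
  · rw [ha, ← map_zsmul, hx, res_res]
  · rw [hb, ← map_zsmul, hy, res_res]

include hPn hQm in
theorem rel_unique {T : C} {p : P.obj.obj (op T)} {q : Q.obj.obj (op T)} {e e' : B.E.obj.obj (op T)}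
    (h : Rel D T p q e) (h' : Rel D T p q e') : e = e' := by
  obtain ⟨R, hR, hp⟩ := hPn T p
  obtain ⟨R', hR', hq⟩ := hQm T q
  refine ext_E B (J.intersection_covering hR hR') fun T' f hf => ?_
  obtain ⟨a, ha⟩ := hp f hf.1
  obtain ⟨b, hb⟩ := hq f hf.2
  rw [h f a b ha hb, h' f a b ha hb]

include hPn hQm in
theorem rel_πP {T : C} {p : P.obj.obj (op T)} {q : Q.obj.obj (op T)} {e : B.E.obj.obj (op T)}
    (h : Rel D T p q e) : B.πP T e = p ∧ B.πQ T e = q := by
  obtain ⟨R, hR, hp⟩ := hPn T p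
  obtain ⟨R', hR', hq⟩ := hQm T q
  constructor
  · refine ext_sec P (J.intersection_covering hR hR') fun T' f hf => ?_
    obtain ⟨a, ha⟩ := hp f hf.1
    obtain ⟨b, hb⟩ := hq f hf.2
    rw [← B.πP_map, h f a b ha hb, D.πP_F, ha]
  · refine ext_sec Q (J.intersection_covering hR hR') fun T' f hf => ?_
    obtain ⟨a, ha⟩ := hp f hf.1
    obtain ⟨b, hb⟩ := hq f hf.2
    rw [← B.πQ_map, h f a b ha hb, D.πQ_F, hb]

theorem rel_res {T T' : C} (f : T' ⟶ T) {p : P.obj.obj (op T)} {q : Q.obj.obj (op T)} {e : B.E.obj.obj (op T)}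
    (h : Rel D T p q e) : Rel D T' (P.obj.map f.op p) (Q.obj.map f.op q) (B.E.obj.map f.op e) := by
  intro T'' g a b ha hb
  rw [res_res] at ha hb
  rw [res_res_E]
  exact h _ a b ha hb

include hPn in
theorem rel_add₁ {T : C} {p p' : P.obj.obj (op T)} {q : Q.obj.obj (op T)} {e e' : B.E.obj.obj (op T)}
    (h : Rel D T p q e) (h' : Rel D T p' q e') (he : B.πQ T e = B.πQ T e') :
    Rel D T (p + p') q (B.add₁ T e e' he) := by
  intro T' f a b ha hb
  obtain ⟨R, hR, hp⟩ := hPn T' (P.obj.map f.op p)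
  refine ext_E B hR fun T'' g hg => ?_
  obtain ⟨a₁, ha₁⟩ := hp g hg
  rw [res_res] at ha₁
  have hb' : m • Q.obj.map g.op b = Q.obj.map (g ≫ f).op q := by rw [← map_zsmul, hb, res_res]
  have ha₂ : n • (P.obj.map g.op a - a₁) = P.obj.map (g ≫ f).op p' := by
    rw [zsmul_sub, ← map_zsmul, ha, ha₁, res_res, map_add, add_sub_cancel_left]
  rw [res_res_E, B.add₁_map, D.F_map,
    add₁_congr B (h _ a₁ _ ha₁ hb') (h' _ _ _ ha₂ hb'), ← D.F_add₁, add_sub_cancel]

include hQm in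
theorem rel_add₂ {T : C} {p : P.obj.obj (op T)} {q q' : Q.obj.obj (op T)} {e e' : B.E.obj.obj (op T)}
    (h : Rel D T p q e) (h' : Rel D T p q' e') (he : B.πP T e = B.πP T e') :
    Rel D T p (q + q') (B.add₂ T e e' he) := by
  intro T' f a b ha hb
  obtain ⟨R, hR, hq⟩ := hQm T' (Q.obj.map f.op q)
  refine ext_E B hR fun T'' g hg => ?_
  obtain ⟨b₁, hb₁⟩ := hq g hg
  rw [res_res] at hb₁
  have ha' : n • P.obj.map g.op a = P.obj.map (g ≫ f).op p := by rw [← map_zsmul, ha, res_res]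
  have hb₂ : m • (Q.obj.map g.op b - b₁) = Q.obj.map (g ≫ f).op q' := by
    rw [zsmul_sub, ← map_zsmul, hb, hb₁, res_res, map_add, add_sub_cancel_left]
  rw [res_res_E, B.add₂_map, D.F_map,
    add₂_congr B (h _ _ b₁ ha' hb₁) (h' _ _ _ ha' hb₂), ← D.F_add₂, add_sub_cancel]

include D hPn hPm hQn hQm in
/-- A family over multiplication by `(n, m)` descends to a splitting when `P` and `Q` are `n`- and `m`-divisible. -/
theorem isTrivial : Biext.IsTrivial J B := by
  choose e he using exists_rel D hPn hPm hQn hQm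
  exact ⟨{
    σ := e
    πP_σ := fun T p q => (rel_πP D hPn hQm (he T p q)).1
    πQ_σ := fun T p q => (rel_πP D hPn hQm (he T p q)).2
    σ_map := fun f p q => rel_unique D hPn hQm (rel_res D f (he _ p q)) (he _ _ _)
    σ_add₁ := fun T p p' q => rel_unique D hPn hQm (he _ _ _) (rel_add₁ D hPn (he T p q) (he T p' q) _)
    σ_add₂ := fun T p q q' => rel_unique D hPn hQm (he _ _ _) (rel_add₂ D hQm (he T p q) (he T p q') _) }⟩

/-- Triviality descends along a morphism over multiplication by `(n, m)`. -/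
theorem isTrivial_of_homOver {α : P ⟶ P} {β : Q ⟶ Q} (B B' : Biext J P Q G)
    (φ : Biext.HomOver J α β (𝟙 G) B' B) (hα : ∀ T p, α.hom.app (op T) p = n • p)
    (hβ : ∀ T q, β.hom.app (op T) q = m • q) (hPn : LocDiv P n) (hPm : LocDiv P m) (hQn : LocDiv Q n)
    (hQm : LocDiv Q m) (hB' : Biext.IsTrivial J B') : Biext.IsTrivial J B := by
  obtain ⟨s⟩ := hB'
  refine isTrivial
    { F := fun T p q => φ.map T (s.σ T p q)
      πP_F := fun T p q => by rw [φ.πP_map, s.πP_σ, hα]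
      πQ_F := fun T p q => by rw [φ.πQ_map, s.πQ_σ, hβ]
      F_map := fun f p q => by rw [← φ.map_res, s.σ_map]
      F_add₁ := fun T p p' q => by rw [s.σ_add₁, φ.map_add₁]
      F_add₂ := fun T p q q' => by rw [s.σ_add₂, φ.map_add₂] } hPn hPm hQn hQm

end Groth.Agent.BiextDiv
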